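import Cfsg.Agent.Lib.ChevChars.Pred
import Cfsg.Agent.Lib.Chev.Simple
import Cfsg.Prelude.Def_ChevAutomorphisms

/-!
The image of every root element under a graph automorphism of D₄ or E₆.
-/

set_option autoImplicit false

namespace Cfsg.Agent.Lib.ChevChars

open Cfsg.Lie Cfsg.Agent.Lib.Chev

/-- One root length: coroots have the coefficients of roots, and the Cartan matrix is read off the bonds. -/
def chkLaced (D : ChevalleyDatum) (C : Cert) : Bool :=
  (allN D.nroots fun r => allN D.rank fun i => decide (cor D C i r = coef D C i r)) &&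
    allN D.rank fun i => allN D.rank fun j =>
      decide (cm C j i = if i = j then 2 else -(D.bonds j i))

theorem laced_D4 : chkLaced chevD4 D4.cert = true := by decide +kernel
theorem laced_E6 : chkLaced chevE6 E6.cert = true := by decide +kernel

theorem exists_laced {D : ChevalleyDatum} (hD : D ∈ [chevD4, chevE6]) :
    ∃ C : Cert, Rooted D C ∧ chkLaced D C = true := by
  simp only [List.mem_cons, List.not_mem_nil, or_false] at hD
  rcases hD with rfl | rfl
  exacts [⟨_, Rooted.mk checked_D4 descent_D4, laced_D4⟩, ⟨_, Rooted.mk checked_E6 descent_E6, laced_E6⟩]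

variable {D : ChevalleyDatum} {C : Cert} {F : Type*} [Field F]

theorem eq_of_coef (h : Checked D C) {r s : ℕ} (hr : r < D.nroots) (hs : s < D.nroots)
    (e : ∀ i < D.rank, coef D C i r = coef D C i s) : r = s := by
  refine h.code_inj hr hs ?_
  have : (code C r : ℤ) = code C s := by
    rw [sum_dig _ _ (h.code_lt hr), sum_dig _ _ (h.code_lt hs)]
    refine Finset.sum_congr rfl fun k hk => ?_
    have hk' : k < D.rank := Finset.mem_range.1 hk
    have := e (D.rank - 1 - k) (by omega)
    rw [coef_eq_dig, coef_eq_dig, show D.rank - 1 - (D.rank - 1 - k) = k by omega] at this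
    rw [this]
  exact_mod_cast this

theorem graph_image (hh : Rooted D C) (hl : chkLaced D C = true)
    (π : Equiv.Perm (Fin D.rank)) (hπ : D.IsDiagramSymmetry π) (φ : ↥(D.group F) ≃* ↥(D.group F))
    (hφ : ∀ (g : ↥(D.group F)) (i : Fin D.rank) (t : F),
      (((g : GL D.Idx F) : Matrix D.Idx D.Idx F) = D.x F (D.simple i) t →
        ((φ g : GL D.Idx F) : Matrix D.Idx D.Idx F) = D.x F (D.simple (π i)) t) ∧
      (((g : GL D.Idx F) : Matrix D.Idx D.Idx F) = D.x F (D.neg (D.simple i)) t →
        ((φ g : GL D.Idx F) : Matrix D.Idx D.Idx F) = D.x F (D.neg (D.simple (π i))) t))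
    (r : ℕ) (hr : r < D.nroots) :
    ∃ ε : F, (ε = 1 ∨ ε = -1) ∧ ∀ (g : ↥(D.group F)) (t : F),
      ((g : GL D.Idx F) : Matrix D.Idx D.Idx F) = D.x F r t →
        ((φ g : GL D.Idx F) : Matrix D.Idx D.Idx F) = D.x F (D.permRoot π r) (ε * t) := by
  have h := hh.toChecked
  simp only [chkLaced, Bool.and_eq_true, allN_iff, decide_eq_true_eq] at hl
  obtain ⟨hcor, hcm⟩ := hl
  have hsym : ∀ i j : Fin D.rank, cm C (π j) (π i) = cm C j i := by
    intro i j
    rw [hcm _ (π i).2 _ (π j).2, hcm _ i.2 _ j.2]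
    by_cases e : i = j
    · subst e; simp
    · rw [if_neg (fun e' => e (π.injective (Fin.ext e'))), if_neg (fun e' => e (Fin.ext e')),
        hπ j i (Ne.symm e)]
  have gmem : ∀ {r : ℕ} (hr : r < D.nroots) (t : F), xGL h F hr t ∈ D.group F :=
    fun hr t => h.xGL_mem_group hr t
  let P : ℕ → Prop := fun r => ∃ s < D.nroots, (∀ i : Fin D.rank, coef D C (π i) s = coef D C i r) ∧
    ∃ ε : F, (ε = 1 ∨ ε = -1) ∧ ∀ (hr : r < D.nroots) (t : F),
      ((φ ⟨_, gmem hr t⟩ : ↥(D.group F)) : GL D.Idx F).val = D.x F s (ε * t)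
  have hbase : ∀ i < D.rank, P (D.simple i) := by
    intro i hi
    refine ⟨D.simple (π ⟨i, hi⟩), h.simple_lt (π ⟨i, hi⟩).2, fun j => ?_, 1, Or.inl rfl, fun hr t => ?_⟩
    · rw [(h.simple_tab (π ⟨i, hi⟩).2 (π j).2).2.1, (h.simple_tab hi j.2).2.1]
      by_cases e : i = j.val
      · obtain rfl : (⟨i, hi⟩ : Fin D.rank) = j := Fin.ext e
        simp
      · rw [if_neg e, if_neg]
        intro e'
        exact e (congrArg Fin.val (π.injective (Fin.ext e')))
    · rw [one_mul]
      exact (hφ ⟨_, gmem hr t⟩ ⟨i, hi⟩ t).1 rfl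
  have hnmem : ∀ i < D.rank, nS h F i ∈ D.group F := fun i hi => hh.nS_mem_group hi
  have hn : ∀ i : Fin D.rank, (φ ⟨_, hnmem i i.2⟩ : GL D.Idx F) = nS h F (π i) := by
    intro i
    have hp := h.simple_lt i.2
    have hq := h.simple_lt (π i).2
    have e : (⟨_, hnmem i i.2⟩ : ↥(D.group F)) = ⟨_, gmem hp 1⟩ *
        ⟨_, gmem (Checked.ng_lt hp) (-(1 : F)⁻¹)⟩ * ⟨_, gmem hp 1⟩ := by
      apply Subtype.ext; apply Units.ext
      simp only [Subgroup.coe_mul, Units.val_mul, coe_xGL]
      rw [coe_nS h i.2]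
      simp [ChevalleyDatum.nMat, ChevalleyDatum.nWord, ChevalleyDatum.wordMat, h.neg_eq hp, mul_assoc]
    rw [e, map_mul, map_mul]
    apply Units.ext
    simp only [Subgroup.coe_mul, Units.val_mul]
    rw [(hφ ⟨_, gmem hp 1⟩ i 1).1 rfl,
      (hφ ⟨_, gmem (Checked.ng_lt hp) (-(1 : F)⁻¹)⟩ i _).2 (by rw [h.neg_eq hp]; rfl), coe_nS h (π i).2]
    simp [ChevalleyDatum.nMat, ChevalleyDatum.nWord, ChevalleyDatum.wordMat, mul_assoc]
  have hstep : ∀ i < D.rank, ∀ r < D.nroots, P r → P (refl C i r) := by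
    intro i hi r hr ⟨s, hs, hco, ε, hε, him⟩
    let i' : Fin D.rank := ⟨i, hi⟩
    have hcart : D.cartan (π i') s = D.cartan i r := by
      rw [h.cartan_eq (π i').2 hs, h.cartan_eq hi hr, zsum_eq, zsum_eq, Finset.sum_range, Finset.sum_range]
      rw [← Equiv.sum_comp π]
      exact Finset.sum_congr rfl fun j _ => by rw [hco j, show cm C (π i') (π j) = cm C i j from hsym j i']
    refine ⟨refl C (π i') s, h.refl_lt (π i').2 hs, fun j => ?_,
      (eta C (π i') s : F) * (ε * (eta C i r : F)), ?_, fun hr' t => ?_⟩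
    · rw [h.coef_refl (π i').2 (π j).2 hs, h.coef_refl hi j.2 hr, hco j, hcart]
      congr 1
      by_cases e : j = i'
      · subst e; simp [i']
      · rw [if_neg (fun e' => e (π.injective (Fin.ext e'))), if_neg (fun e' => e (Fin.ext e'))]
    · rcases hε with rfl | rfl <;> rcases eta_cases (C := C) (π i') s with w | w <;>
        rcases eta_cases (C := C) i r with w' | w' <;> simp [w, w']
    · have ee : (eta C i r : F) * ((eta C i r : F) * t) = t := by
        rcases eta_cases (C := C) i r with w | w <;> simp [w]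
      have e := h.nS_conj_x (F := F) hi hr ((eta C i r : F) * t)
      rw [ee] at e
      have e' : (⟨_, gmem hr' t⟩ : ↥(D.group F)) =
          ⟨_, hnmem i hi⟩ * ⟨_, gmem hr ((eta C i r : F) * t)⟩ * (⟨_, hnmem i hi⟩ : ↥(D.group F))⁻¹ := by
        apply Subtype.ext
        simp only [Subgroup.coe_mul, Subgroup.coe_inv]
        rw [e, mul_inv_cancel_right]
      rw [e', map_mul, map_mul, map_inv]
      simp only [Subgroup.coe_mul, Subgroup.coe_inv]
      have eimg : (φ ⟨_, gmem hr ((eta C i r : F) * t)⟩ : GL D.Idx F) =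
          xGL h F hs (ε * ((eta C i r : F) * t)) := Units.ext (him hr _)
      rw [hn i', eimg, h.nS_conj_x (π i').2 hs, mul_inv_cancel_right, coe_xGL]
      congr 1
      ring
  obtain ⟨s, hs, hco, ε, hε, him⟩ := hh.root_induction hbase hstep r hr
  refine ⟨ε, hε, fun g t hg => ?_⟩
  have hs' : D.permRoot π r = s := by
    have hiff : ∀ q < D.nroots, (((List.finRange D.rank).all fun i =>
        (D.coroot.getD q #[]).getD (π i).val 0 == (D.coroot.getD r #[]).getD i.val 0) = true ↔ q = s) := by
      intro q hq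
      simp only [List.all_eq_true, List.mem_finRange, true_implies, beq_iff_eq]
      constructor
      · intro hall
        refine eq_of_coef h hq hs fun k hk => ?_
        have := hall (π.symm ⟨k, hk⟩)
        rw [Equiv.apply_symm_apply, h.coroot_getD hk hq, h.coroot_getD (π.symm ⟨k, hk⟩).2 hr,
          hcor q hq k hk, hcor r hr _ (π.symm ⟨k, hk⟩).2, ← hco, Equiv.apply_symm_apply] at this
        exact this
      · rintro rfl i
        rw [h.coroot_getD (π i).2 hq, h.coroot_getD i.2 hr, hcor q hq _ (π i).2, hcor r hr _ i.2, hco]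
    unfold ChevalleyDatum.permRoot
    cases hf : (List.range D.nroots).find? fun q => (List.finRange D.rank).all fun i =>
        (D.coroot.getD q #[]).getD (π i).val 0 == (D.coroot.getD r #[]).getD i.val 0 with
    | none =>
      have := List.find?_eq_none.1 hf s (List.mem_range.2 hs)
      exact absurd ((hiff s hs).2 rfl) this
    | some q =>
      have hq := List.mem_range.1 (List.mem_of_find?_eq_some hf)
      have hall := @List.find?_some ℕ _ q _ hf
      simpa using (hiff q hq).1 hall
  have : g = ⟨_, gmem hr t⟩ := Subtype.ext (Units.ext hg)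
  rw [hs', this]
  exact him hr t

end Cfsg.Agent.Lib.ChevChars
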