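import Cfsg.Agent.Lib.Chev.Basic
import Cfsg.Agent.Lib.Chev.RootOrbit

/-!
Every positive root which is not fundamental is a fundamental root plus a positive root; hence a
character of the root lattice is determined by its values at the fundamental roots.
-/

set_option autoImplicit false

namespace Cfsg.Agent.Lib.ChevChars

open Cfsg.Lie Cfsg.Agent.Lib.Chev

/-- Witness search: `r = p_i + s` for some positive root `s < r`. -/
def chkPred (D : ChevalleyDatum) (C : Cert) : Bool :=
  allN (D.nroots / 2) fun j =>
    let r := D.nroots / 2 + j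
    (List.range D.rank).any (fun i => Nat.beq r (D.simple i)) ||
      (List.range D.rank).any fun i =>
        (chainList D (D.simple i)).any fun x =>
          Nat.blt x.1 r && Nat.ble (D.nroots / 2) x.1 &&
            ((x.2.toList.head?).map Prod.fst == some r) &&
            (cRoot C (D.simple i) x.1 1 == some r)

theorem pred_G2 : chkPred chevG2 G2.cert = true := by decide +kernel
theorem pred_B2 : chkPred chevB2 B2.cert = true := by decide +kernel
theorem pred_D4 : chkPred chevD4 D4.cert = true := by decide +kernel
theorem pred_F4 : chkPred chevF4 F4.cert = true := by decide +kernel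
theorem pred_E6 : chkPred chevE6 E6.cert = true := by decide +kernel
theorem pred_E7 : chkPred chevE7 E7.cert = true := by decide +kernel
theorem pred_E8 : chkPred chevE8 E8.cert = true := by decide +kernel

theorem exists_pred {D : ChevalleyDatum}
    (hD : D ∈ [chevG2, chevB2, chevD4, chevF4, chevE6, chevE7, chevE8]) :
    ∃ C : Cert, Rooted D C ∧ chkPred D C = true := by
  simp only [List.mem_cons, List.not_mem_nil, or_false] at hD
  rcases hD with rfl | rfl | rfl | rfl | rfl | rfl | rfl
  exacts [⟨_, Rooted.mk checked_G2 descent_G2, pred_G2⟩, ⟨_, Rooted.mk checked_B2 descent_B2, pred_B2⟩,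
    ⟨_, Rooted.mk checked_D4 descent_D4, pred_D4⟩, ⟨_, Rooted.mk checked_F4 descent_F4, pred_F4⟩,
    ⟨_, Rooted.mk checked_E6 descent_E6, pred_E6⟩, ⟨_, Rooted.mk checked_E7 descent_E7, pred_E7⟩,
    ⟨_, Rooted.mk checked_E8 descent_E8, pred_E8⟩]

variable {D : ChevalleyDatum} {C : Cert} {F : Type*} [Field F]

/-- A character of the root lattice is the product of its values at the fundamental roots. -/
theorem character_eq (h : Checked D C) (hp : chkPred D C = true) {χ : ℕ → Fˣ}
    (hχ : D.IsRootCharacter χ) :
    ∀ a < D.nroots, chiOf D C (fun j => χ (D.simple j)) a = χ a := by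
  have hc := h.chiOf_isRootCharacter (F := F) (fun j => χ (D.simple j))
  have hm := h.two_mul_half
  have hsimple : ∀ i < D.rank, chiOf D C (fun j => χ (D.simple j)) (D.simple i) = χ (D.simple i) := by
    intro i hi
    rw [chiOf, Finset.prod_eq_single i]
    · rw [(h.simple_tab hi hi).2.1, if_pos rfl, zpow_one]
    · intro j hj hne
      rw [(h.simple_tab hi (Finset.mem_range.1 hj)).2.1, if_neg (Ne.symm hne), zpow_zero]
    · intro hn; exact absurd (Finset.mem_range.2 hi) hn
  have hpos : ∀ a, D.nroots / 2 ≤ a → a < D.nroots → chiOf D C (fun j => χ (D.simple j)) a = χ a := by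
    intro a
    induction a using Nat.strong_induction_on with
    | _ a ih =>
      intro hle hlt
      have hb := hp
      simp only [chkPred, allN_iff, Bool.or_eq_true, List.any_eq_true, List.mem_range, Bool.and_eq_true,
        Nat.blt_eq, Nat.ble_eq, natBeq_iff, beq_iff_eq] at hb
      have := hb (a - D.nroots / 2) (by omega)
      rw [show D.nroots / 2 + (a - D.nroots / 2) = a by omega] at this
      rcases this with ⟨i, hi, rfl⟩ | ⟨i, hi, x, _, ⟨⟨hxa, hxp⟩, _⟩, hcr⟩
      · exact hsimple i hi
      · have hs : x.1 < D.nroots := by omega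
        have e : D.chainRoot (D.simple i) x.1 1 = some a := by
          rw [h.chainRoot_eq (h.simple_lt hi)]; exact hcr
        rw [hc.2 _ _ _ (h.simple_lt hi) hs e, hχ.2 _ _ _ (h.simple_lt hi) hs e, hsimple i hi,
          ih x.1 hxa hxp hs]
  intro a ha
  by_cases hle : D.nroots / 2 ≤ a
  · exact hpos a hle ha
  · have h1 := hpos (ng D a) (by unfold ng; omega) (Checked.ng_lt ha)
    have e1 := hc.1 (ng D a) (Checked.ng_lt ha)
    have e2 := hχ.1 (ng D a) (Checked.ng_lt ha)
    rw [h.neg_eq (Checked.ng_lt ha), Checked.ng_ng ha] at e1 e2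
    rw [e1, e2, h1]

end Cfsg.Agent.Lib.ChevChars
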